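import Mathlib
import Groth.Agent.H18.TwistAmple
import Groth.Agent.H18.TensorSec
import Groth.Agent.H82.HHFinite

/-!
# Definitions for the hyperplane-section argument on projective space (S5638, S5639)

* `Lx k N x`: the `k`-subspace of linear forms vanishing at the point `x` of `P^N_k`.
* `e0 M : H^0(X, M) ≃+ Γ(X, M)`.
-/

set_option autoImplicit false
set_option linter.style.haveILetI false
universe u

open CategoryTheory CategoryTheory.Limits AlgebraicGeometry TopologicalSpace Opposite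

noncomputable section

namespace Groth.Agent.H21.Hyp

/-- the linear forms vanishing at `x` -/
def Lx (k : Type u) [Field k] (N : ℕ) (x : ProjectiveSpectrum (CohB1.polyGrading N k)) :
    Submodule k ↥(CohB1.polyGrading N k 1) where
  carrier := {ℓ | ℓ.1 ∈ x.asHomogeneousIdeal}
  zero_mem' := by
    show ((0 : ↥(CohB1.polyGrading N k 1)) : MvPolynomial (Fin (N + 1)) k) ∈ x.asHomogeneousIdeal
    rw [ZeroMemClass.coe_zero]; exact zero_mem _
  add_mem' {a b} ha hb := by
    show ((a + b : ↥(CohB1.polyGrading N k 1)) : MvPolynomial (Fin (N + 1)) k) ∈ x.asHomogeneousIdeal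
    rw [Submodule.coe_add]; exact add_mem ha hb
  smul_mem' c a ha := by
    show ((c • a : ↥(CohB1.polyGrading N k 1)) : MvPolynomial (Fin (N + 1)) k) ∈ x.asHomogeneousIdeal
    rw [Submodule.coe_smul, Algebra.smul_def]
    exact Ideal.mul_mem_left _ _ ha

theorem mem_Lx (k : Type u) [Field k] (N : ℕ) (x : ProjectiveSpectrum (CohB1.polyGrading N k))
    (ℓ : ↥(CohB1.polyGrading N k 1)) : ℓ ∈ Lx k N x ↔ ℓ.1 ∈ x.asHomogeneousIdeal := Iff.rfl

/-- `H^0(X, M) ≃ Γ(X, M)`. -/
def e0 {X : Scheme.{u}} (M : X.Modules) : Coh.HH X M 0 ≃+ Γ(M, ⊤) :=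
  Sheaf.H.equiv₀ (Coh.toAb M) (T := (⊤ : Opens X)) isTerminalTop

end Groth.Agent.H21.Hyp
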