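import Mathlib
import Groth.Agent.H8.TensorStalk
import Groth.Agent.H17.InvSection

/-!
# (ii): tensoring with an invertible module does not change the associated points
-/

set_option autoImplicit false
set_option linter.style.haveILetI false
universe u

open CategoryTheory CategoryTheory.Limits AlgebraicGeometry TopologicalSpace Opposite
open scoped TensorProduct

noncomputable section

namespace Groth.Agent.H21.Hyp

variable {X : Scheme.{u}}

/-- (ii) tensoring with an invertible module does not create associated points -/
theorem isAssPoint_of_tensorMod (F L : X.Modules) (hL : PicF.IsInvertible L) (y : X)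
    (h : Curv2.IsAssPoint (CohB1.tensorMod F L) y) : Curv2.IsAssPoint F y := by
  obtain ⟨e1⟩ := Groth.Agent.H8.nonempty_stalk_tensorMod_equiv F L y
  obtain ⟨b⟩ := Groth.Agent.H17.InvSection.nonempty_basis_stalk_of_isInvertible hL y
  let e2 : L.presheaf.stalk y ≃ₗ[X.presheaf.stalk y] X.presheaf.stalk y :=
    b.equivFun.trans (LinearEquiv.funUnique (Fin 1) (X.presheaf.stalk y) (X.presheaf.stalk y))
  let e3 : (F.presheaf.stalk y) ⊗[X.presheaf.stalk y] (L.presheaf.stalk y) ≃ₗ[X.presheaf.stalk y]
      F.presheaf.stalk y :=
    (TensorProduct.congr (LinearEquiv.refl _ _) e2).trans (TensorProduct.rid _ _)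
  exact ((e1.trans e3).isAssociatedPrime_iff).mp h

end Groth.Agent.H21.Hyp
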