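import Mathlib
import Groth.Agent.H18.TensorSec
import Groth.Agent.H18.GenLocusGen
import Groth.Agent.H8.AssPoints2

/-!
# (K): a nonzero global section killed by a section of an invertible module
-/

set_option autoImplicit false
set_option linter.style.haveILetI false
universe u

open CategoryTheory CategoryTheory.Limits AlgebraicGeometry TopologicalSpace Opposite
open Groth.Agent.H18.SecTw Groth.Agent.H18.TensorGen Groth.Agent.H18.TensorSec

noncomputable section

namespace Groth.Agent.H21.Hyp

variable {X : Scheme.{u}}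

/-- (K) a nonzero global section of `G` killed by tensoring with a section `s` of `L`
has an associated point of `G` off the generating locus of `s`. -/
theorem exists_assPoint_of_tm_eq_zero [IsLocallyNoetherian X] (G L : X.Modules)
    [G.IsQuasicoherent] (s : Coh.structureModule X ⟶ L) (τ : Γ(G, ⊤)) (hτ : τ ≠ 0)
    (h : tm G L τ (sv s ⊤) = 0) :
    ∃ y : X, Curv2.IsAssPoint G y ∧ y ∉ CohB1.genLocus L s := by
  classical
  -- some affine open where τ does not vanish
  have hex : ∃ U : X.affineOpens,
      G.presheaf.map (homOfLE (le_top : (U : X.Opens) ≤ ⊤)).op τ ≠ 0 := by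
    by_contra hcon
    push Not at hcon
    apply hτ
    refine Groth.Agent.H8.section_eq_of_cover G τ 0 (fun x _ => ?_)
    obtain ⟨_, ⟨U, hU, rfl⟩, hxU, -⟩ := X.isBasis_affineOpens.exists_subset_of_mem_open
      (Set.mem_univ x) isOpen_univ
    refine ⟨U, le_top, hxU, ?_⟩
    rw [hcon ⟨U, hU⟩, map_zero]
  obtain ⟨U, hU⟩ := hex
  haveI : IsNoetherianRing Γ(X, (U : X.Opens)) := IsLocallyNoetherian.component_noetherian U
  obtain ⟨y, hyU, hyass, hgerm⟩ := Groth.Agent.H8.exists_isAssPoint_germ_ne_zero U.2 G _ hU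
  refine ⟨y, hyass, fun hyD => ?_⟩
  apply hgerm
  set D := CohB1.genLocus L s with hD
  -- τ vanishes on D
  have h1 : tm G L (G.presheaf.map (homOfLE (le_top : D ≤ ⊤)).op τ) (sv s D) = 0 := by
    have := congrArg ((CohB1.tensorMod G L).presheaf.map (homOfLE (le_top : D ≤ ⊤)).op) h
    rw [tm_res, sv_res, map_zero] at this
    exact this
  have h2 : G.presheaf.map (homOfLE (le_top : D ≤ ⊤)).op τ = 0 := by
    apply injective_tm (F := G) (Groth.Agent.H18.GenLocusGen.isGen_sv_genLocus s)
    show tm G L _ (sv s D) = tm G L 0 (sv s D)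
    rw [h1, tm_zero_left]
  -- germ at y
  have e1 := TopCat.Presheaf.germ_res_apply G.presheaf
    (homOfLE (le_top : (U : X.Opens) ≤ ⊤)) y hyU τ
  have e2 := TopCat.Presheaf.germ_res_apply G.presheaf (homOfLE (le_top : D ≤ ⊤)) y hyD τ
  rw [e1, ← e2, h2, map_zero]

end Groth.Agent.H21.Hyp
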