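import Mathlib
import Groth.Agent.H82.HHFinite

/-!
# (H): isomorphic modules have cohomology of the same dimension
-/

set_option autoImplicit false
set_option linter.style.haveILetI false
universe u

open CategoryTheory CategoryTheory.Limits AlgebraicGeometry TopologicalSpace Opposite
open Groth.Agent.H82.HHA Groth.Agent.H82.HHFinite

noncomputable section

namespace Groth.Agent.H21.Hyp

variable {X : Scheme.{u}}

/-- the linear equivalence on cohomology induced by an isomorphism of modules -/
def mapLEquiv (k : Type u) [Field k] [X.Over (Spec (CommRingCat.of k))]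
    {M M' : X.Modules} (e : M ≅ M') (n : ℕ) : Coh.HH X M n ≃ₗ[k] Coh.HH X M' n :=
  LinearEquiv.ofLinear (mapL (A := k) e.hom n) (mapL (A := k) e.inv n)
    (by
      ext x
      show Sheaf.H.map (abMap e.hom) n (Sheaf.H.map (abMap e.inv) n x) = x
      rw [← Sheaf.H.map_comp_apply]
      have : abMap e.inv ≫ abMap e.hom = 𝟙 _ :=
        ((SheafOfModules.toSheaf X.ringCatSheaf).map_comp e.inv e.hom).symm.trans
          ((congrArg (SheafOfModules.toSheaf X.ringCatSheaf).map e.inv_hom_id).trans
            ((SheafOfModules.toSheaf X.ringCatSheaf).map_id M'))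
      rw [this, Sheaf.H.map_id_apply])
    (by
      ext x
      show Sheaf.H.map (abMap e.inv) n (Sheaf.H.map (abMap e.hom) n x) = x
      rw [← Sheaf.H.map_comp_apply]
      have : abMap e.hom ≫ abMap e.inv = 𝟙 _ :=
        ((SheafOfModules.toSheaf X.ringCatSheaf).map_comp e.hom e.inv).symm.trans
          ((congrArg (SheafOfModules.toSheaf X.ringCatSheaf).map e.hom_inv_id).trans
            ((SheafOfModules.toSheaf X.ringCatSheaf).map_id M))
      rw [this, Sheaf.H.map_id_apply])

/-- (H) isomorphic modules have `H^n` of the same dimension -/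
theorem finrank_HH_congr (k : Type u) [Field k] [X.Over (Spec (CommRingCat.of k))]
    {M M' : X.Modules} (e : M ≅ M') (n : ℕ) :
    Module.finrank k (Coh.HH X M n) = Module.finrank k (Coh.HH X M' n) :=
  (mapLEquiv k e n).finrank_eq

end Groth.Agent.H21.Hyp
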