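import Mathlib
import Groth.Agent.H21.Hyp.Defs
import Groth.Agent.H21.Hyp.KLemma
import Groth.Agent.H21.Hyp.HCongr
import Groth.Agent.H21.Hyp.AssTensor
import Groth.Agent.H83.Hyp_A
import Groth.Agent.H83.Hyp_B
import Groth.Agent.H83.Hyp_C
import Groth.Agent.H18.HypUJG
import Groth.Agent.H88.HypPhi
import Groth.Agent.H18.TensorCoh
import Groth.Agent.H8.TensorPow
import Groth.Agent.H82.ProjFinite
import Groth.Agent.S1576

set_option autoImplicit false
set_option linter.style.haveILetI false
universe u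

open CategoryTheory CategoryTheory.Limits AlgebraicGeometry TopologicalSpace Opposite
open Groth.Agent.H18.SecTw Groth.Agent.H18.TensorGen Groth.Agent.H18.TensorSec
open Groth.Agent.H83.Hyp Groth.Agent.H18.HypUJG Groth.Agent.H88.HypPhi

noncomputable section

namespace Groth.Agent.H21.Hyp

theorem isInvertible_twistProjSpace (k : Type u) [Field k] (N : ℕ) (d : ℤ) :
    PicF.IsInvertible (Twist.twistProjSpace N k d) :=
  (Groth.Agent.H18.TwistTensor.twist_package (CohB1.polyGrading N k)
    (Groth.Agent.H8.TensorPow.hcov1_polyGrading N k)).1 d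

/-- the main statement: an injective linear map `H^0(F(-1)) → H^0(F)`, and strict drop of
dimension when `H^0(F) ≠ 0`. -/
theorem main (k : Type u) [Field k] [IsAlgClosed k] (N : ℕ) (F : (CohB1.ProjSpace N k).Modules)
    (hF : Coh.IsCoh F)
    (hass : ∀ x : ↥(CohB1.ProjSpace N k), Curv2.IsAssPoint F x →
      ¬ IsClosed ({x} : Set ↥(CohB1.ProjSpace N k))) :
    (∃ φ : Coh.HH (CohB1.ProjSpace N k) (CohB1.tensorMod F (Twist.twistProjSpace N k (-1))) 0 →ₗ[k]
        Coh.HH (CohB1.ProjSpace N k) F 0, Function.Injective φ) ∧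
    (1 ≤ Module.finrank k (Coh.HH (CohB1.ProjSpace N k) F 0) →
      Module.finrank k (Coh.HH (CohB1.ProjSpace N k)
        (CohB1.tensorMod F (Twist.twistProjSpace N k (-1))) 0) + 1 ≤
      Module.finrank k (Coh.HH (CohB1.ProjSpace N k) F 0)) := by
  haveI : F.IsQuasicoherent := hF.1
  haveI : IsLocallyNoetherian (CohB1.ProjSpace N k) :=
    Groth.Agent.H82.ProjFinite.isLocallyNoetherian N k
  haveI : QuasiCompact (CohB1.ProjSpace.toSpec N k) :=
    inferInstanceAs (QuasiCompact (Proj.toSpecZero (CohB1.polyGrading N k) ≫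
      Spec.map (CommRingCat.ofHom (algebraMap k (CohB1.polyGrading N k 0)))))
  haveI : CompactSpace ↥(CohB1.ProjSpace N k) :=
    QuasiCompact.compactSpace_of_compactSpace (CohB1.ProjSpace.toSpec N k)
  have hinv := isInvertible_twistProjSpace k N (-1)
  haveI : (CohB1.tensorMod F (Twist.twistProjSpace N k (-1))).IsQuasicoherent :=
    Groth.Agent.H18.TensorCoh.isQuasicoherent_tensorMod F _ hinv
  -- finiteness of the associated points
  have hfin : {x : ↥(CohB1.ProjSpace N k) | Curv2.IsAssPoint F x}.Finite := by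
    have h := Groth.Agent.S1576.result (CohB1.ProjSpace N k) F hF ⊤ isCompact_univ
    refine h.subset ?_
    intro x hx
    exact ⟨trivial, hx⟩
  -- the two linear forms
  obtain ⟨ℓ₀, ℓ₁, hℓ⟩ := exists_pair_avoiding (k := k) (E := ↥(CohB1.polyGrading N k 1))
    hfin.toFinset (fun x => Lx k N x) (by
      intro x hx v
      rw [Set.Finite.mem_toFinset] at hx
      exact Lx_sup_span_ne_top k N x (hass x hx) v)
  obtain ⟨Φ, hlin, hzero⟩ := exists_Phi k N F
  -- the key property
  have key : ∀ (ℓ : ↥(CohB1.polyGrading N k 1))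
      (t : Coh.HH (CohB1.ProjSpace N k) (CohB1.tensorMod F (Twist.twistProjSpace N k (-1))) 0),
      t ≠ 0 → Φ ℓ t = 0 → ∃ x ∈ hfin.toFinset, ℓ ∈ Lx k N x := by
    intro ℓ t ht hΦ
    have h1 := hzero ℓ t hΦ
    have hτ : e0 (CohB1.tensorMod F (Twist.twistProjSpace N k (-1))) t ≠ 0 := by
      intro h
      apply ht
      have := (e0 (CohB1.tensorMod F (Twist.twistProjSpace N k (-1)))).injective
        (h.trans (map_zero _).symm)
      exact this
    obtain ⟨y, hy, hyg⟩ := exists_assPoint_of_tm_eq_zero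
      (CohB1.tensorMod F (Twist.twistProjSpace N k (-1)))
      (Twist.twist (CohB1.polyGrading N k) ((1 : ℕ) : ℤ))
      (Groth.Agent.H18.TwistAmple.secHom (CohB1.polyGrading N k) ℓ) _ hτ h1
    have hy' : Curv2.IsAssPoint F y := isAssPoint_of_tensorMod F _ hinv y hy
    refine ⟨y, ?_, ?_⟩
    · rw [Set.Finite.mem_toFinset]; exact hy'
    · rw [mem_Lx]
      exact genLocus_secHom_one k N ℓ y hyg
  -- injectivity of Φ ℓ₀
  have hinj : Function.Injective (Φ ℓ₀) := by
    rw [injective_iff_map_eq_zero]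
    intro t hΦ
    by_contra ht
    obtain ⟨x, hx, hxL⟩ := key ℓ₀ t ht hΦ
    have := hℓ 1 0 (Or.inl one_ne_zero) x hx
    rw [one_smul, zero_smul, add_zero] at this
    exact this hxL
  refine ⟨⟨Φ ℓ₀, hinj⟩, fun h0 => ?_⟩
  haveI : Module.Finite k (Coh.HH (CohB1.ProjSpace N k) F 0) :=
    Module.finite_of_finrank_pos (by omega)
  by_contra hcon
  have hVW : Module.finrank k (Coh.HH (CohB1.ProjSpace N k) F 0) ≤
      Module.finrank k (Coh.HH (CohB1.ProjSpace N k)
        (CohB1.tensorMod F (Twist.twistProjSpace N k (-1))) 0) := by omega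
  obtain ⟨c, t, ht, hct⟩ := exists_eigen_pair (Φ ℓ₀) (Φ ℓ₁) hinj hVW h0
  have h2 : Φ ((-c) • ℓ₀ + (1 : k) • ℓ₁) t = 0 := by
    rw [hlin, hct, one_smul, neg_smul, neg_add_cancel]
  obtain ⟨x, hx, hxL⟩ := key _ t ht h2
  exact hℓ (-c) 1 (Or.inr one_ne_zero) x hx hxL

end Groth.Agent.H21.Hyp

namespace Groth.Agent.H21.Hyp

theorem main2 (k : Type u) [Field k] [IsAlgClosed k] (N : ℕ) (F : (CohB1.ProjSpace N k).Modules)
    (hF : Coh.IsCoh F)
    (hass : ∀ x : ↥(CohB1.ProjSpace N k), Curv2.IsAssPoint F x →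
      ¬ IsClosed ({x} : Set ↥(CohB1.ProjSpace N k)))
    (n : ℕ) (hn : Module.finrank k (Coh.HH (CohB1.ProjSpace N k) F 0) ≤ n) :
    Subsingleton (Coh.HH (CohB1.ProjSpace N k)
      (CohB1.tensorMod F (Twist.twistProjSpace N k (-(n : ℤ)))) 0) := by
  have hinv : ∀ d : ℤ, PicF.IsInvertible (Twist.twistProjSpace N k d) :=
    isInvertible_twistProjSpace k N
  have coh : ∀ j : ℕ, Coh.IsCoh (CohB1.tensorMod F (Twist.twistProjSpace N k (-(j : ℤ)))) :=
    fun j => Groth.Agent.H18.TensorCoh.isCoh_tensorMod hF (hinv _)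
  have ass : ∀ (j : ℕ) (x : ↥(CohB1.ProjSpace N k)),
      Curv2.IsAssPoint (CohB1.tensorMod F (Twist.twistProjSpace N k (-(j : ℤ)))) x →
      ¬ IsClosed ({x} : Set ↥(CohB1.ProjSpace N k)) :=
    fun j x hx => hass x (isAssPoint_of_tensorMod F _ (hinv _) x hx)
  have fin : ∀ j : ℕ, Module.Finite k (Coh.HH (CohB1.ProjSpace N k)
      (CohB1.tensorMod F (Twist.twistProjSpace N k (-(j : ℤ)))) 0) :=
    fun j => Groth.Agent.H82.ProjFinite.finite_HH N k _ (coh j) 0
  set d : ℕ → ℕ := fun j => Module.finrank k (Coh.HH (CohB1.ProjSpace N k)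
      (CohB1.tensorMod F (Twist.twistProjSpace N k (-(j : ℤ)))) 0) with hd
  have d0 : d 0 = Module.finrank k (Coh.HH (CohB1.ProjSpace N k) F 0) := by
    obtain ⟨e⟩ := nonempty_twist_zero k N F
    exact finrank_HH_congr k e 0
  have step : ∀ j : ℕ, d (j + 1) ≤ d j ∧ (1 ≤ d j → d (j + 1) + 1 ≤ d j) := by
    intro j
    obtain ⟨⟨φ, hφ⟩, h2⟩ := main k N _ (coh j) (ass j)
    obtain ⟨e⟩ := nonempty_twist_succ k N F j
    have he := finrank_HH_congr k e 0
    haveI := fin j
    constructor
    · show Module.finrank k _ ≤ Module.finrank k _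
      rw [← he]
      exact LinearMap.finrank_le_finrank_of_injective hφ
    · intro h1
      show Module.finrank k _ + 1 ≤ Module.finrank k _
      rw [← he]
      exact h2 h1
  have ind : ∀ j : ℕ, d j + j ≤ d 0 ∨ d j = 0 := by
    intro j
    induction j with
    | zero => left; omega
    | succ j ih =>
      obtain ⟨s1, s2⟩ := step j
      rcases ih with h | h
      · by_cases h1 : 1 ≤ d j
        · left
          have := s2 h1
          omega
        · right
          omega
      · right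
        omega
  have hdn : d n = 0 := by
    rcases ind n with h | h
    · omega
    · exact h
  haveI := fin n
  exact Module.finrank_zero_iff.mp hdn

end Groth.Agent.H21.Hyp
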